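import Cfsg.Agent.Lib.Helper9.ThmPairDef

set_option autoImplicit false

namespace Cfsg.Agent.Lib.Helper9

open Cfsg.Lie

/-- Words of the Weyl group of `chevG2` making pairs of roots positive. -/
def pairWsG2 : List (List ℕ) := [[0, 1], [0, 1, 0]]

set_option maxRecDepth 1000000 in
theorem pairG2_ok : pairB chevG2 permLitG2 pairWsG2 = true := by decide +kernel

theorem pairG2_lt : ∀ w ∈ pairWsG2, ∀ i ∈ w, i < chevG2.rank := by decide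

set_option maxRecDepth 1000000 in
theorem pairG2_top : chevG2.IsPosRoot (chevG2.nroots - 1) := by decide +kernel

set_option maxRecDepth 1000000 in
theorem pairG2_neg : chevG2.neg (chevG2.nroots - 1) = 0 := by decide +kernel

/-- Words of the Weyl group of `chevD4` making pairs of roots positive. -/
def pairWsD4 : List (List ℕ) := [[0], [3, 1, 2], [2, 1, 0], [3, 1], [3, 1, 0], [3], [3, 1, 2, 0]]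

set_option maxRecDepth 1000000 in
theorem pairD4_ok : pairB chevD4 permLitD4 pairWsD4 = true := by decide +kernel

theorem pairD4_lt : ∀ w ∈ pairWsD4, ∀ i ∈ w, i < chevD4.rank := by decide

set_option maxRecDepth 1000000 in
theorem pairD4_top : chevD4.IsPosRoot (chevD4.nroots - 1) := by decide +kernel

set_option maxRecDepth 1000000 in
theorem pairD4_neg : chevD4.neg (chevD4.nroots - 1) = 0 := by decide +kernel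

/-- Words of the Weyl group of `chevE6` making pairs of roots positive. -/
def pairWsE6 : List (List ℕ) := [[5, 4, 3, 2, 1, 0], [5, 4, 3, 2, 1, 3, 4, 0, 2, 3], [5, 4, 3, 2, 1, 3, 4], [5, 4, 3, 2, 1, 3], [5, 4, 3, 2], [5, 4, 3, 1], [5], [5, 4], [5, 4, 3, 2, 0], [5, 4, 3, 2, 1, 3, 0], [5, 4, 3], [5, 4, 3, 2, 1, 3, 4, 0], [5, 4, 3, 2, 1, 3, 0, 2], [5, 4, 3, 2, 1], [5, 4, 3, 2, 1, 3, 4, 0, 2]]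

set_option maxRecDepth 1000000 in
theorem pairE6_ok : pairB chevE6 permLitE6 pairWsE6 = true := by decide +kernel

theorem pairE6_lt : ∀ w ∈ pairWsE6, ∀ i ∈ w, i < chevE6.rank := by decide

set_option maxRecDepth 1000000 in
theorem pairE6_top : chevE6.IsPosRoot (chevE6.nroots - 1) := by decide +kernel

set_option maxRecDepth 1000000 in
theorem pairE6_neg : chevE6.neg (chevE6.nroots - 1) = 0 := by decide +kernel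

/-- Words of the Weyl group of `chevE7` making pairs of roots positive. -/
def pairWsE7 : List (List ℕ) := [[5, 4, 3, 2, 1, 0], [6, 5, 4, 3, 2, 1, 3, 4, 5, 0, 2, 3, 4, 1, 3, 2], [6, 5, 4, 3, 2, 1, 3, 4, 5, 0, 2, 3, 4, 1, 3], [6, 5, 4, 3, 2, 1, 3, 4, 5, 0, 2, 3, 4], [6, 5, 4, 3, 2, 1, 3, 4, 5, 0, 2, 3], [6, 5, 4, 3, 2, 1, 3, 4, 5, 0, 2, 3, 1], [6, 5, 4, 3, 2, 1, 3, 4, 5, 0, 2, 3, 4, 1], [6, 5, 4, 3, 2, 1], [6, 5, 4, 3, 2], [6, 5, 4, 3], [6, 5], [6, 5, 4, 3, 2, 1, 3, 4, 0, 2], [6, 5, 4], [6, 5, 4, 3, 2, 1, 3, 4, 0, 2, 3], [6, 5, 4, 3, 2, 1, 3, 4, 0], [6, 5, 4, 3, 2, 1, 0], [6, 5, 4, 3, 2, 1, 3, 4, 5, 0], [6, 5, 4, 3, 2, 1, 3, 4], [6, 5, 4, 3, 2, 1, 3], [6, 5, 4, 3, 2, 0], [6, 5, 4, 3, 1], [6, 5, 4, 3, 2, 1, 3, 4, 5, 0, 2], [6], [6, 5, 4, 3, 2, 1, 3, 0, 2], [6, 5, 4, 3, 2, 1,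 3, 0], [6, 5, 4, 3, 2, 1, 3, 4, 5], [6, 5, 4, 3, 2, 1, 3, 4, 0, 2, 3, 1]]

set_option maxRecDepth 1000000 in
theorem pairE7_ok : pairB chevE7 permLitE7 pairWsE7 = true := by decide +kernel

theorem pairE7_lt : ∀ w ∈ pairWsE7, ∀ i ∈ w, i < chevE7.rank := by decide

set_option maxRecDepth 1000000 in
theorem pairE7_top : chevE7.IsPosRoot (chevE7.nroots - 1) := by decide +kernel

set_option maxRecDepth 1000000 in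
theorem pairE7_neg : chevE7.neg (chevE7.nroots - 1) = 0 := by decide +kernel

/-- Words of the Weyl group of `chevE8` making pairs of roots positive. -/
def pairWsE8 : List (List ℕ) := [[7, 6, 5, 4, 3, 2, 1, 3, 0, 2], [7, 6, 5, 4, 3, 2, 1, 3, 4, 5, 6, 0, 2, 3, 4, 5, 1, 3, 4, 2, 3, 0, 2, 1, 3, 4, 5, 6], [7, 6, 5, 4, 3, 2, 1, 3, 4, 5, 6, 0, 2, 3, 4, 5, 1, 3, 4, 2, 3, 0, 2, 1, 3, 4, 5], [7, 6, 5, 4, 3, 2, 1, 3, 4, 5, 6, 0, 2, 3, 4, 5, 1, 3, 4, 2, 3, 0, 2, 1, 3, 4], [7, 6, 5, 4, 3, 2, 1, 3, 4, 5, 6, 0, 2, 3, 4, 5, 1, 3, 4, 2, 3, 1, 0], [7, 6, 5, 4, 3, 2, 1, 3, 4, 5, 0, 2, 3], [7, 6, 5, 4, 3, 2, 1, 3, 4, 5, 6, 0, 2], [7, 6, 5, 4, 3, 2, 1, 3, 4, 5, 6, 0, 2, 3, 4, 5, 1, 3, 2], [7, 6, 5, 4, 3, 1], [7, 6, 5, 4, 3, 2, 1, 3, 4], [7, 6, 5, 4, 3, 2, 1, 3, 4, 0, 2, 3, 1], [7, 6, 5, 4, 3,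 2, 1, 3, 4, 5, 6, 0, 2, 3, 4, 5, 1], [7, 6, 5, 4, 3, 2, 1, 3, 4, 5, 0, 2, 3, 4], [7, 6, 5, 4, 3, 2, 1, 3, 4, 5, 6, 0, 2, 3, 1], [7, 6, 5, 4, 3, 2, 1, 3, 4, 5, 6, 0, 2, 3, 4, 5, 1, 3, 4], [7, 6, 5, 4, 3, 2, 1, 3, 4, 5, 6, 0, 2, 3, 4, 5, 1, 3, 2, 0], [7, 6, 5, 4, 3, 2, 1, 3, 4, 5, 0, 2, 3, 4, 1, 3, 2], [7, 6, 5, 4, 3, 2, 1, 3, 4, 5, 6], [7, 6, 5, 4, 3, 2, 1, 3, 4, 5], [7, 6, 5, 4, 3, 2, 1, 3, 4, 5, 6, 0, 2, 3, 4, 1, 3, 2, 0], [7, 6, 5, 4, 3, 2, 1, 3, 4, 0, 2], [7, 6, 5, 4, 3, 2, 1, 3], [7, 6, 5, 4, 3, 2, 1, 3, 4, 5, 6, 0, 2, 3, 4, 5], [7, 6, 5, 4, 3, 2, 1, 3, 4, 5, 6, 0, 2, 3, 4, 1, 3], [7, 6, 5, 4, 3, 2, 1], [7, 6, 5, 4, 3, 2, 1, 3, 4, 5, 6, 0, 2, 3, 4, 5, 1, 3, 4, 2, 0], [7, 6, 5, 4, 3, 2], [7, 6, 5, 4, 3, 2, 1, 3, 4, 5, 0, 2, 3, 4, 1], [7, 6, 5, 4, 3, 2, 1, 3, 4, 5, 6, 0, 2,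 3, 4, 5, 1, 3, 4, 2, 3, 0], [7, 6, 5, 4, 3, 2, 1, 3, 4, 0], [7, 6, 5, 4, 3, 2, 1, 3, 4, 5, 0, 2, 3, 1], [7, 6, 5, 4, 3, 2, 1, 3, 4, 5, 6, 0], [7, 6, 5, 4, 3, 2, 1, 0], [7], [7, 6, 5, 4, 3, 2, 1, 3, 4, 5, 6, 0, 2, 3, 4, 5, 1, 3, 4, 2, 3, 0, 2, 1], [7, 6, 5, 4, 3, 2, 1, 3, 4, 5, 6, 0, 2, 3, 4, 1, 3, 2], [7, 6, 5, 4, 3, 2, 1, 3, 4, 5, 0, 2, 3, 4, 1, 3, 2, 0], [7, 6, 5, 4, 3, 2, 1, 3, 4, 5, 6, 0, 2, 3], [7, 6, 5], [7, 6, 5, 4, 3, 2, 0], [7, 6, 5, 4, 3, 2, 1, 3, 4, 5, 0], [7, 6, 5, 4, 3, 2, 1, 3, 4, 5, 6, 0, 2, 3, 4, 5, 1, 3, 4, 2, 3, 0, 2, 1, 3], [7, 6, 5, 4], [7, 6, 5, 4, 3], [7, 6, 5, 4, 3, 2, 1, 3, 4, 5, 6, 0, 2, 3, 4], [7, 6, 5, 4, 3, 2, 1, 3, 0], [7, 6, 5, 4, 3, 2, 1, 3, 4, 5, 6, 0, 2, 3, 4, 5, 1, 3, 4, 2, 3, 1], [7, 6, 5, 4, 3, 2, 1, 3, 4, 5, 0, 2], [7, 6], [7, 6, 5, 4, 3,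 2, 1, 3, 4, 5, 6, 0, 2, 3, 4, 5, 1, 3, 4, 2, 3], [7, 6, 5, 4, 3, 2, 1, 3, 4, 5, 6, 0, 2, 3, 4, 1], [7, 6, 5, 4, 3, 2, 1, 3, 4, 5, 6, 0, 2, 3, 4, 5, 1, 3], [7, 6, 5, 4, 3, 2, 1, 3, 4, 5, 0, 2, 3, 4, 1, 3], [7, 6, 5, 4, 3, 2, 1, 3, 4, 0, 2, 3], [7, 6, 5, 4, 3, 2, 1, 3, 4, 5, 6, 0, 2, 3, 4, 5, 1, 3, 4, 2, 3, 0, 2], [7, 6, 5, 4, 3, 2, 1, 3, 4, 5, 6, 0, 2, 3, 4, 5, 1, 3, 4, 2]]

set_option maxRecDepth 1000000 in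
theorem pairE8_ok : pairB chevE8 permLitE8 pairWsE8 = true := by decide +kernel

theorem pairE8_lt : ∀ w ∈ pairWsE8, ∀ i ∈ w, i < chevE8.rank := by decide

set_option maxRecDepth 1000000 in
theorem pairE8_top : chevE8.IsPosRoot (chevE8.nroots - 1) := by decide +kernel

set_option maxRecDepth 1000000 in
theorem pairE8_neg : chevE8.neg (chevE8.nroots - 1) = 0 := by decide +kernel

theorem pairok_cert (D : ChevalleyDatum)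
    (hD : D ∈ [chevG2, chevD4, chevE6, chevE7, chevE8]) : PAIROK D := by
  simp only [List.mem_cons, List.not_mem_nil, or_false] at hD
  rcases hD with rfl | rfl | rfl | rfl | rfl
  · exact ⟨pairG2_top, pairG2_neg, pairWsG2, pairG2_lt, pairG2_ok⟩
  · exact ⟨pairD4_top, pairD4_neg, pairWsD4, pairD4_lt, pairD4_ok⟩
  · exact ⟨pairE6_top, pairE6_neg, pairWsE6, pairE6_lt, pairE6_ok⟩
  · exact ⟨pairE7_top, pairE7_neg, pairWsE7, pairE7_lt, pairE7_ok⟩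
  · exact ⟨pairE8_top, pairE8_neg, pairWsE8, pairE8_lt, pairE8_ok⟩

end Cfsg.Agent.Lib.Helper9
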