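import Cfsg.Agent.Lib.Helper9.CertH

set_option autoImplicit false

namespace Cfsg.Agent.Lib.Helper9

open Cfsg.Lie

/-- Unimodular matrices diagonalising the Cartan matrix of `chevG2`, and the diagonal. -/
def smithPG2 : Matrix (Fin 2) (Fin 2) ℤ := !![0, -1; 1, 2]

def smithPiG2 : Matrix (Fin 2) (Fin 2) ℤ := !![2, 1; -1, 0]

def smithQG2 : Matrix (Fin 2) (Fin 2) ℤ := !![1, 2; 0, 1]

def smithQiG2 : Matrix (Fin 2) (Fin 2) ℤ := !![1, -2; 0, 1]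

def smithDG2 : Fin 2 → ℕ := ![1, 1]

theorem smithG2_P : smithPiG2 * smithPG2 = 1 := by decide +kernel

theorem smithG2_Q : smithQG2 * smithQiG2 = 1 := by decide +kernel

set_option maxRecDepth 100000 in
theorem smithG2_S : smithPG2 * (Matrix.of fun i j : Fin 2 =>
    cartanExp chevG2 i (Nat.add chevG2.rank (chevG2.simple j))) * smithQG2 =
    Matrix.diagonal (fun j => (smithDG2 j : ℤ)) := by decide +kernel

/-- Unimodular matrices diagonalising the Cartan matrix of `chevB2`, and the diagonal. -/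
def smithPB2 : Matrix (Fin 2) (Fin 2) ℤ := !![0, -1; 1, 2]

def smithPiB2 : Matrix (Fin 2) (Fin 2) ℤ := !![2, 1; -1, 0]

def smithQB2 : Matrix (Fin 2) (Fin 2) ℤ := !![1, 2; 0, 1]

def smithQiB2 : Matrix (Fin 2) (Fin 2) ℤ := !![1, -2; 0, 1]

def smithDB2 : Fin 2 → ℕ := ![1, 2]

theorem smithB2_P : smithPiB2 * smithPB2 = 1 := by decide +kernel

theorem smithB2_Q : smithQB2 * smithQiB2 = 1 := by decide +kernel

set_option maxRecDepth 100000 in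
theorem smithB2_S : smithPB2 * (Matrix.of fun i j : Fin 2 =>
    cartanExp chevB2 i (Nat.add chevB2.rank (chevB2.simple j))) * smithQB2 =
    Matrix.diagonal (fun j => (smithDB2 j : ℤ)) := by decide +kernel

/-- Unimodular matrices diagonalising the Cartan matrix of `chevD4`, and the diagonal. -/
def smithPD4 : Matrix (Fin 4) (Fin 4) ℤ := !![-1, 0, 0, 0; -2, -1, 0, 0; -3, -2, -1, 0; 2, 2, 1, 1]

def smithPiD4 : Matrix (Fin 4) (Fin 4) ℤ := !![-1, 0, 0, 0; 2, -1, 0, 0; -1, 2, -1, 0; -1, 0, 1, 1]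

def smithQD4 : Matrix (Fin 4) (Fin 4) ℤ := !![0, 0, 0, 1; 1, 0, 0, 2; 0, 1, -1, 1; 0, 0, 1, 2]

def smithQiD4 : Matrix (Fin 4) (Fin 4) ℤ := !![-2, 1, 0, 0; -3, 0, 1, 1; -2, 0, 0, 1; 1, 0, 0, 0]

def smithDD4 : Fin 4 → ℕ := ![1, 1, 2, 2]

theorem smithD4_P : smithPiD4 * smithPD4 = 1 := by decide +kernel

theorem smithD4_Q : smithQD4 * smithQiD4 = 1 := by decide +kernel

set_option maxRecDepth 100000 in
theorem smithD4_S : smithPD4 * (Matrix.of fun i j : Fin 4 =>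
    cartanExp chevD4 i (Nat.add chevD4.rank (chevD4.simple j))) * smithQD4 =
    Matrix.diagonal (fun j => (smithDD4 j : ℤ)) := by decide +kernel

/-- Unimodular matrices diagonalising the Cartan matrix of `chevF4`, and the diagonal. -/
def smithPF4 : Matrix (Fin 4) (Fin 4) ℤ := !![-1, 0, 0, 0; 1, 0, -1, 0; -2, -1, 0, 0; -2, -2, -2, -1]

def smithPiF4 : Matrix (Fin 4) (Fin 4) ℤ := !![-1, 0, 0, 0; 2, 0, -1, 0; -1, -1, 0, 0; 0, 2, 2, -1]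

def smithQF4 : Matrix (Fin 4) (Fin 4) ℤ := !![0, 0, 1, -2; 1, 0, 2, -4; 0, 0, 2, -3; 0, 1, 2, -2]

def smithQiF4 : Matrix (Fin 4) (Fin 4) ℤ := !![-2, 1, 0, 0; 2, 0, -2, 1; -3, 0, 2, 0; -2, 0, 1, 0]

def smithDF4 : Fin 4 → ℕ := ![1, 1, 1, 1]

theorem smithF4_P : smithPiF4 * smithPF4 = 1 := by decide +kernel

theorem smithF4_Q : smithQF4 * smithQiF4 = 1 := by decide +kernel

set_option maxRecDepth 100000 in
theorem smithF4_S : smithPF4 * (Matrix.of fun i j : Fin 4 =>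
    cartanExp chevF4 i (Nat.add chevF4.rank (chevF4.simple j))) * smithQF4 =
    Matrix.diagonal (fun j => (smithDF4 j : ℤ)) := by decide +kernel

/-- Unimodular matrices diagonalising the Cartan matrix of `chevE6`, and the diagonal. -/
def smithPE6 : Matrix (Fin 6) (Fin 6) ℤ := !![-1, 0, 0, 0, 0, 0; 0, -1, 0, 0, 0, 0; 1, -2, 0, -1, 0, 0; 2, -3, 0, -2, -1, 0; -2, 1, -1, 0, 0, 0; -5, 0, -4, -3, -2, -1]

def smithPiE6 : Matrix (Fin 6) (Fin 6) ℤ := !![-1, 0, 0, 0, 0, 0; 0, -1, 0, 0, 0, 0; 2, -1, 0, 0, -1, 0; -1, 2, -1, 0, 0, 0; 0, -1, 2, -1, 0, 0; 0, 0, -1, 2, 4, -1]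

def smithQE6 : Matrix (Fin 6) (Fin 6) ℤ := !![0, 0, 0, 0, 1, -2; 0, 0, 0, 0, 2, -3; 1, 0, 0, 0, 2, -4; 0, 1, 0, 0, 4, -6; 0, 0, 1, 0, 4, -5; 0, 0, 0, 1, 4, -4]

def smithQiE6 : Matrix (Fin 6) (Fin 6) ℤ := !![-2, 0, 1, 0, 0, 0; 0, -2, 0, 1, 0, 0; 2, -3, 0, 0, 1, 0; 4, -4, 0, 0, 0, 1; -3, 2, 0, 0, 0, 0; -2, 1, 0, 0, 0, 0]

def smithDE6 : Fin 6 → ℕ := ![1, 1, 1, 1, 1, 3]

theorem smithE6_P : smithPiE6 * smithPE6 = 1 := by decide +kernel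

theorem smithE6_Q : smithQE6 * smithQiE6 = 1 := by decide +kernel

set_option maxRecDepth 100000 in
theorem smithE6_S : smithPE6 * (Matrix.of fun i j : Fin 6 =>
    cartanExp chevE6 i (Nat.add chevE6.rank (chevE6.simple j))) * smithQE6 =
    Matrix.diagonal (fun j => (smithDE6 j : ℤ)) := by decide +kernel

/-- Unimodular matrices diagonalising the Cartan matrix of `chevE7`, and the diagonal. -/
def smithPE7 : Matrix (Fin 7) (Fin 7) ℤ := !![-1, 0, 0, 0, 0, 0, 0; 0, -1, 0, 0, 0, 0, 0; 1, -2, 0, -1, 0, 0, 0; 2, -3, 0, -2, -1, 0, 0; 3, -4, 0, -3, -2, -1, 0; -2, 1, -1, 0, 0, 0, 0; -4, -1, -4, -4, -3, -2, -1]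

def smithPiE7 : Matrix (Fin 7) (Fin 7) ℤ := !![-1, 0, 0, 0, 0, 0, 0; 0, -1, 0, 0, 0, 0, 0; 2, -1, 0, 0, 0, -1, 0; -1, 2, -1, 0, 0, 0, 0; 0, -1, 2, -1, 0, 0, 0; 0, 0, -1, 2, -1, 0, 0; 0, 0, 0, -1, 2, 4, -1]

def smithQE7 : Matrix (Fin 7) (Fin 7) ℤ := !![0, 0, 0, 0, 0, 1, -2; 0, 0, 0, 0, 0, 2, -3; 1, 0, 0, 0, 0, 2, -4; 0, 1, 0, 0, 0, 4, -6; 0, 0, 1, 0, 0, 4, -5; 0, 0, 0, 1, 0, 4, -4; 0, 0, 0, 0, 1, 4, -3]

def smithQiE7 : Matrix (Fin 7) (Fin 7) ℤ := !![-2, 0, 1, 0, 0, 0, 0; 0, -2, 0, 1, 0, 0, 0; 2, -3, 0, 0, 1, 0, 0; 4, -4, 0, 0, 0, 1, 0; 6, -5, 0, 0, 0, 0, 1; -3, 2, 0, 0, 0, 0, 0; -2, 1, 0, 0, 0, 0, 0]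

def smithDE7 : Fin 7 → ℕ := ![1, 1, 1, 1, 1, 1, 2]

theorem smithE7_P : smithPiE7 * smithPE7 = 1 := by decide +kernel

theorem smithE7_Q : smithQE7 * smithQiE7 = 1 := by decide +kernel

set_option maxRecDepth 100000 in
theorem smithE7_S : smithPE7 * (Matrix.of fun i j : Fin 7 =>
    cartanExp chevE7 i (Nat.add chevE7.rank (chevE7.simple j))) * smithQE7 =
    Matrix.diagonal (fun j => (smithDE7 j : ℤ)) := by decide +kernel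

/-- Unimodular matrices diagonalising the Cartan matrix of `chevE8`, and the diagonal. -/
def smithPE8 : Matrix (Fin 8) (Fin 8) ℤ := !![-1, 0, 0, 0, 0, 0, 0, 0; 0, -1, 0, 0, 0, 0, 0, 0; 1, -2, 0, -1, 0, 0, 0, 0; 2, -3, 0, -2, -1, 0, 0, 0; 3, -4, 0, -3, -2, -1, 0, 0; 4, -5, 0, -4, -3, -2, -1, 0; -2, 1, -1, 0, 0, 0, 0, 0; -3, -2, -4, -5, -4, -3, -2, -1]

def smithPiE8 : Matrix (Fin 8) (Fin 8) ℤ := !![-1, 0, 0, 0, 0, 0, 0, 0; 0, -1, 0, 0, 0, 0, 0, 0; 2, -1, 0, 0, 0, 0, -1, 0; -1, 2, -1, 0, 0, 0, 0, 0; 0, -1, 2, -1, 0, 0, 0, 0; 0, 0, -1, 2, -1, 0, 0, 0; 0, 0, 0, -1, 2, -1, 0, 0; 0, 0, 0, 0, -1, 2, 4, -1]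

def smithQE8 : Matrix (Fin 8) (Fin 8) ℤ := !![0, 0, 0, 0, 0, 0, 1, -2; 0, 0, 0, 0, 0, 0, 2, -3; 1, 0, 0, 0, 0, 0, 2, -4; 0, 1, 0, 0, 0, 0, 4, -6; 0, 0, 1, 0, 0, 0, 4, -5; 0, 0, 0, 1, 0, 0, 4, -4; 0, 0, 0, 0, 1, 0, 4, -3; 0, 0, 0, 0, 0, 1, 4, -2]

def smithQiE8 : Matrix (Fin 8) (Fin 8) ℤ := !![-2, 0, 1, 0, 0, 0, 0, 0; 0, -2, 0, 1, 0, 0, 0, 0; 2, -3, 0, 0, 1, 0, 0, 0; 4, -4, 0, 0, 0, 1, 0, 0; 6, -5, 0, 0, 0, 0, 1, 0; 8, -6, 0, 0, 0, 0, 0, 1; -3, 2, 0, 0, 0, 0, 0, 0; -2, 1, 0, 0, 0, 0, 0, 0]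

def smithDE8 : Fin 8 → ℕ := ![1, 1, 1, 1, 1, 1, 1, 1]

theorem smithE8_P : smithPiE8 * smithPE8 = 1 := by decide +kernel

theorem smithE8_Q : smithQE8 * smithQiE8 = 1 := by decide +kernel

set_option maxRecDepth 100000 in
theorem smithE8_S : smithPE8 * (Matrix.of fun i j : Fin 8 =>
    cartanExp chevE8 i (Nat.add chevE8.rank (chevE8.simple j))) * smithQE8 =
    Matrix.diagonal (fun j => (smithDE8 j : ℤ)) := by decide +kernel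

end Cfsg.Agent.Lib.Helper9
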