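import Cfsg.Agent.Lib.Helper9.TwE6Tbl

set_option autoImplicit false

namespace Cfsg.Agent.Lib.Helper9

open Cfsg.Lie
open Cfsg.Agent.Lib.Helper4
open Cfsg.Agent.Lib.Helper15.ChevGraphEx

/-! ### The table of the Weyl group of the twisted group of type `E₆`: actions and signs -/

set_option maxRecDepth 10000000 in
theorem e6_data_length : e6Data.length = 1152 := by decide +kernel

set_option maxRecDepth 10000000 in
theorem e6_data_inc : incB (e6Data.map fun p => p.2.2.1) = true := by decide +kernel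

set_option maxRecDepth 10000000 in
theorem e6_data_act_0 : ∀ p ∈ e6Data0, ∀ r < 72,
    digitAt 256 p.2.1 r = wActP (permOf chevE6) (e6Wd p.1) r := by
  decide +kernel

set_option maxRecDepth 10000000 in
theorem e6_data_act_1 : ∀ p ∈ e6Data1, ∀ r < 72,
    digitAt 256 p.2.1 r = wActP (permOf chevE6) (e6Wd p.1) r := by
  decide +kernel

set_option maxRecDepth 10000000 in
theorem e6_data_act_2 : ∀ p ∈ e6Data2, ∀ r < 72,
    digitAt 256 p.2.1 r = wActP (permOf chevE6) (e6Wd p.1) r := by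
  decide +kernel

set_option maxRecDepth 10000000 in
theorem e6_data_act_3 : ∀ p ∈ e6Data3, ∀ r < 72,
    digitAt 256 p.2.1 r = wActP (permOf chevE6) (e6Wd p.1) r := by
  decide +kernel

set_option maxRecDepth 10000000 in
theorem e6_data_act_4 : ∀ p ∈ e6Data4, ∀ r < 72,
    digitAt 256 p.2.1 r = wActP (permOf chevE6) (e6Wd p.1) r := by
  decide +kernel

set_option maxRecDepth 10000000 in
theorem e6_data_act_5 : ∀ p ∈ e6Data5, ∀ r < 72,
    digitAt 256 p.2.1 r = wActP (permOf chevE6) (e6Wd p.1) r := by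
  decide +kernel

set_option maxRecDepth 10000000 in
theorem e6_data_act_6 : ∀ p ∈ e6Data6, ∀ r < 72,
    digitAt 256 p.2.1 r = wActP (permOf chevE6) (e6Wd p.1) r := by
  decide +kernel

set_option maxRecDepth 10000000 in
theorem e6_data_act_7 : ∀ p ∈ e6Data7, ∀ r < 72,
    digitAt 256 p.2.1 r = wActP (permOf chevE6) (e6Wd p.1) r := by
  decide +kernel

set_option maxRecDepth 10000000 in
theorem e6_data_act_8 : ∀ p ∈ e6Data8, ∀ r < 72,
    digitAt 256 p.2.1 r = wActP (permOf chevE6) (e6Wd p.1) r := by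
  decide +kernel

set_option maxRecDepth 10000000 in
theorem e6_data_act_9 : ∀ p ∈ e6Data9, ∀ r < 72,
    digitAt 256 p.2.1 r = wActP (permOf chevE6) (e6Wd p.1) r := by
  decide +kernel

set_option maxRecDepth 10000000 in
theorem e6_data_act_10 : ∀ p ∈ e6Data10, ∀ r < 72,
    digitAt 256 p.2.1 r = wActP (permOf chevE6) (e6Wd p.1) r := by
  decide +kernel

set_option maxRecDepth 10000000 in
theorem e6_data_act_11 : ∀ p ∈ e6Data11, ∀ r < 72,
    digitAt 256 p.2.1 r = wActP (permOf chevE6) (e6Wd p.1) r := by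
  decide +kernel

set_option maxRecDepth 10000000 in
theorem e6_data_act_12 : ∀ p ∈ e6Data12, ∀ r < 72,
    digitAt 256 p.2.1 r = wActP (permOf chevE6) (e6Wd p.1) r := by
  decide +kernel

set_option maxRecDepth 10000000 in
theorem e6_data_act_13 : ∀ p ∈ e6Data13, ∀ r < 72,
    digitAt 256 p.2.1 r = wActP (permOf chevE6) (e6Wd p.1) r := by
  decide +kernel

set_option maxRecDepth 10000000 in
theorem e6_data_act_14 : ∀ p ∈ e6Data14, ∀ r < 72,
    digitAt 256 p.2.1 r = wActP (permOf chevE6) (e6Wd p.1) r := by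
  decide +kernel

set_option maxRecDepth 10000000 in
theorem e6_data_act_15 : ∀ p ∈ e6Data15, ∀ r < 72,
    digitAt 256 p.2.1 r = wActP (permOf chevE6) (e6Wd p.1) r := by
  decide +kernel

set_option maxRecDepth 10000000 in
theorem e6_data_act_16 : ∀ p ∈ e6Data16, ∀ r < 72,
    digitAt 256 p.2.1 r = wActP (permOf chevE6) (e6Wd p.1) r := by
  decide +kernel

set_option maxRecDepth 10000000 in
theorem e6_data_act_17 : ∀ p ∈ e6Data17, ∀ r < 72,
    digitAt 256 p.2.1 r = wActP (permOf chevE6) (e6Wd p.1) r := by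
  decide +kernel

theorem e6_data_act : ∀ p ∈ e6Data, ∀ r < 72,
    digitAt 256 p.2.1 r = wActP (permOf chevE6) (e6Wd p.1) r :=
  e6_data_split
    e6_data_act_0
    e6_data_act_1
    e6_data_act_2
    e6_data_act_3
    e6_data_act_4
    e6_data_act_5
    e6_data_act_6
    e6_data_act_7
    e6_data_act_8
    e6_data_act_9
    e6_data_act_10
    e6_data_act_11
    e6_data_act_12
    e6_data_act_13
    e6_data_act_14
    e6_data_act_15
    e6_data_act_16
    e6_data_act_17

set_option maxRecDepth 10000000 in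
theorem e6_data_sgn_0 : ∀ p ∈ e6Data0, p.2.2.1 = sgnF (digitAt 256 p.2.1) 72 := by
  decide +kernel

set_option maxRecDepth 10000000 in
theorem e6_data_sgn_1 : ∀ p ∈ e6Data1, p.2.2.1 = sgnF (digitAt 256 p.2.1) 72 := by
  decide +kernel

set_option maxRecDepth 10000000 in
theorem e6_data_sgn_2 : ∀ p ∈ e6Data2, p.2.2.1 = sgnF (digitAt 256 p.2.1) 72 := by
  decide +kernel

set_option maxRecDepth 10000000 in
theorem e6_data_sgn_3 : ∀ p ∈ e6Data3, p.2.2.1 = sgnF (digitAt 256 p.2.1) 72 := by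
  decide +kernel

set_option maxRecDepth 10000000 in
theorem e6_data_sgn_4 : ∀ p ∈ e6Data4, p.2.2.1 = sgnF (digitAt 256 p.2.1) 72 := by
  decide +kernel

set_option maxRecDepth 10000000 in
theorem e6_data_sgn_5 : ∀ p ∈ e6Data5, p.2.2.1 = sgnF (digitAt 256 p.2.1) 72 := by
  decide +kernel

set_option maxRecDepth 10000000 in
theorem e6_data_sgn_6 : ∀ p ∈ e6Data6, p.2.2.1 = sgnF (digitAt 256 p.2.1) 72 := by
  decide +kernel

set_option maxRecDepth 10000000 in
theorem e6_data_sgn_7 : ∀ p ∈ e6Data7, p.2.2.1 = sgnF (digitAt 256 p.2.1) 72 := by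
  decide +kernel

set_option maxRecDepth 10000000 in
theorem e6_data_sgn_8 : ∀ p ∈ e6Data8, p.2.2.1 = sgnF (digitAt 256 p.2.1) 72 := by
  decide +kernel

set_option maxRecDepth 10000000 in
theorem e6_data_sgn_9 : ∀ p ∈ e6Data9, p.2.2.1 = sgnF (digitAt 256 p.2.1) 72 := by
  decide +kernel

set_option maxRecDepth 10000000 in
theorem e6_data_sgn_10 : ∀ p ∈ e6Data10, p.2.2.1 = sgnF (digitAt 256 p.2.1) 72 := by
  decide +kernel

set_option maxRecDepth 10000000 in
theorem e6_data_sgn_11 : ∀ p ∈ e6Data11, p.2.2.1 = sgnF (digitAt 256 p.2.1) 72 := by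
  decide +kernel

set_option maxRecDepth 10000000 in
theorem e6_data_sgn_12 : ∀ p ∈ e6Data12, p.2.2.1 = sgnF (digitAt 256 p.2.1) 72 := by
  decide +kernel

set_option maxRecDepth 10000000 in
theorem e6_data_sgn_13 : ∀ p ∈ e6Data13, p.2.2.1 = sgnF (digitAt 256 p.2.1) 72 := by
  decide +kernel

set_option maxRecDepth 10000000 in
theorem e6_data_sgn_14 : ∀ p ∈ e6Data14, p.2.2.1 = sgnF (digitAt 256 p.2.1) 72 := by
  decide +kernel

set_option maxRecDepth 10000000 in
theorem e6_data_sgn_15 : ∀ p ∈ e6Data15, p.2.2.1 = sgnF (digitAt 256 p.2.1) 72 := by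
  decide +kernel

set_option maxRecDepth 10000000 in
theorem e6_data_sgn_16 : ∀ p ∈ e6Data16, p.2.2.1 = sgnF (digitAt 256 p.2.1) 72 := by
  decide +kernel

set_option maxRecDepth 10000000 in
theorem e6_data_sgn_17 : ∀ p ∈ e6Data17, p.2.2.1 = sgnF (digitAt 256 p.2.1) 72 := by
  decide +kernel

theorem e6_data_sgn : ∀ p ∈ e6Data, p.2.2.1 = sgnF (digitAt 256 p.2.1) 72 :=
  e6_data_split
    e6_data_sgn_0
    e6_data_sgn_1
    e6_data_sgn_2
    e6_data_sgn_3
    e6_data_sgn_4
    e6_data_sgn_5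
    e6_data_sgn_6
    e6_data_sgn_7
    e6_data_sgn_8
    e6_data_sgn_9
    e6_data_sgn_10
    e6_data_sgn_11
    e6_data_sgn_12
    e6_data_sgn_13
    e6_data_sgn_14
    e6_data_sgn_15
    e6_data_sgn_16
    e6_data_sgn_17


end Cfsg.Agent.Lib.Helper9
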