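import Cfsg.Agent.Lib.Helper9.TwE6Tbl

set_option autoImplicit false

namespace Cfsg.Agent.Lib.Helper9

open Cfsg.Lie
open Cfsg.Agent.Lib.Helper4
open Cfsg.Agent.Lib.Helper15.ChevGraphEx

/-! ### The table of the Weyl group of the twisted group of type `E₆`: reduced words -/

set_option maxRecDepth 10000000 in
theorem e6_data_step_0 : ∀ p ∈ e6Data0, p.1 = [] ∨ (p.2.2.2.1 < 1152 ∧
    (e6Data.getD p.2.2.2.1 e6Dflt).1 = p.1.tail ∧
    lenAddB chevE6 (e6Blk (p.1.headD 0)) (e6Wd p.1.tail) = true) := by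
  decide +kernel

set_option maxRecDepth 10000000 in
theorem e6_data_step_1 : ∀ p ∈ e6Data1, p.1 = [] ∨ (p.2.2.2.1 < 1152 ∧
    (e6Data.getD p.2.2.2.1 e6Dflt).1 = p.1.tail ∧
    lenAddB chevE6 (e6Blk (p.1.headD 0)) (e6Wd p.1.tail) = true) := by
  decide +kernel

set_option maxRecDepth 10000000 in
theorem e6_data_step_2 : ∀ p ∈ e6Data2, p.1 = [] ∨ (p.2.2.2.1 < 1152 ∧
    (e6Data.getD p.2.2.2.1 e6Dflt).1 = p.1.tail ∧
    lenAddB chevE6 (e6Blk (p.1.headD 0)) (e6Wd p.1.tail) = true) := by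
  decide +kernel

set_option maxRecDepth 10000000 in
theorem e6_data_step_3 : ∀ p ∈ e6Data3, p.1 = [] ∨ (p.2.2.2.1 < 1152 ∧
    (e6Data.getD p.2.2.2.1 e6Dflt).1 = p.1.tail ∧
    lenAddB chevE6 (e6Blk (p.1.headD 0)) (e6Wd p.1.tail) = true) := by
  decide +kernel

set_option maxRecDepth 10000000 in
theorem e6_data_step_4 : ∀ p ∈ e6Data4, p.1 = [] ∨ (p.2.2.2.1 < 1152 ∧
    (e6Data.getD p.2.2.2.1 e6Dflt).1 = p.1.tail ∧
    lenAddB chevE6 (e6Blk (p.1.headD 0)) (e6Wd p.1.tail) = true) := by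
  decide +kernel

set_option maxRecDepth 10000000 in
theorem e6_data_step_5 : ∀ p ∈ e6Data5, p.1 = [] ∨ (p.2.2.2.1 < 1152 ∧
    (e6Data.getD p.2.2.2.1 e6Dflt).1 = p.1.tail ∧
    lenAddB chevE6 (e6Blk (p.1.headD 0)) (e6Wd p.1.tail) = true) := by
  decide +kernel

set_option maxRecDepth 10000000 in
theorem e6_data_step_6 : ∀ p ∈ e6Data6, p.1 = [] ∨ (p.2.2.2.1 < 1152 ∧
    (e6Data.getD p.2.2.2.1 e6Dflt).1 = p.1.tail ∧
    lenAddB chevE6 (e6Blk (p.1.headD 0)) (e6Wd p.1.tail) = true) := by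
  decide +kernel

set_option maxRecDepth 10000000 in
theorem e6_data_step_7 : ∀ p ∈ e6Data7, p.1 = [] ∨ (p.2.2.2.1 < 1152 ∧
    (e6Data.getD p.2.2.2.1 e6Dflt).1 = p.1.tail ∧
    lenAddB chevE6 (e6Blk (p.1.headD 0)) (e6Wd p.1.tail) = true) := by
  decide +kernel

set_option maxRecDepth 10000000 in
theorem e6_data_step_8 : ∀ p ∈ e6Data8, p.1 = [] ∨ (p.2.2.2.1 < 1152 ∧
    (e6Data.getD p.2.2.2.1 e6Dflt).1 = p.1.tail ∧
    lenAddB chevE6 (e6Blk (p.1.headD 0)) (e6Wd p.1.tail) = true) := by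
  decide +kernel

set_option maxRecDepth 10000000 in
theorem e6_data_step_9 : ∀ p ∈ e6Data9, p.1 = [] ∨ (p.2.2.2.1 < 1152 ∧
    (e6Data.getD p.2.2.2.1 e6Dflt).1 = p.1.tail ∧
    lenAddB chevE6 (e6Blk (p.1.headD 0)) (e6Wd p.1.tail) = true) := by
  decide +kernel

set_option maxRecDepth 10000000 in
theorem e6_data_step_10 : ∀ p ∈ e6Data10, p.1 = [] ∨ (p.2.2.2.1 < 1152 ∧
    (e6Data.getD p.2.2.2.1 e6Dflt).1 = p.1.tail ∧
    lenAddB chevE6 (e6Blk (p.1.headD 0)) (e6Wd p.1.tail) = true) := by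
  decide +kernel

set_option maxRecDepth 10000000 in
theorem e6_data_step_11 : ∀ p ∈ e6Data11, p.1 = [] ∨ (p.2.2.2.1 < 1152 ∧
    (e6Data.getD p.2.2.2.1 e6Dflt).1 = p.1.tail ∧
    lenAddB chevE6 (e6Blk (p.1.headD 0)) (e6Wd p.1.tail) = true) := by
  decide +kernel

set_option maxRecDepth 10000000 in
theorem e6_data_step_12 : ∀ p ∈ e6Data12, p.1 = [] ∨ (p.2.2.2.1 < 1152 ∧
    (e6Data.getD p.2.2.2.1 e6Dflt).1 = p.1.tail ∧
    lenAddB chevE6 (e6Blk (p.1.headD 0)) (e6Wd p.1.tail) = true) := by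
  decide +kernel

set_option maxRecDepth 10000000 in
theorem e6_data_step_13 : ∀ p ∈ e6Data13, p.1 = [] ∨ (p.2.2.2.1 < 1152 ∧
    (e6Data.getD p.2.2.2.1 e6Dflt).1 = p.1.tail ∧
    lenAddB chevE6 (e6Blk (p.1.headD 0)) (e6Wd p.1.tail) = true) := by
  decide +kernel

set_option maxRecDepth 10000000 in
theorem e6_data_step_14 : ∀ p ∈ e6Data14, p.1 = [] ∨ (p.2.2.2.1 < 1152 ∧
    (e6Data.getD p.2.2.2.1 e6Dflt).1 = p.1.tail ∧
    lenAddB chevE6 (e6Blk (p.1.headD 0)) (e6Wd p.1.tail) = true) := by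
  decide +kernel

set_option maxRecDepth 10000000 in
theorem e6_data_step_15 : ∀ p ∈ e6Data15, p.1 = [] ∨ (p.2.2.2.1 < 1152 ∧
    (e6Data.getD p.2.2.2.1 e6Dflt).1 = p.1.tail ∧
    lenAddB chevE6 (e6Blk (p.1.headD 0)) (e6Wd p.1.tail) = true) := by
  decide +kernel

set_option maxRecDepth 10000000 in
theorem e6_data_step_16 : ∀ p ∈ e6Data16, p.1 = [] ∨ (p.2.2.2.1 < 1152 ∧
    (e6Data.getD p.2.2.2.1 e6Dflt).1 = p.1.tail ∧
    lenAddB chevE6 (e6Blk (p.1.headD 0)) (e6Wd p.1.tail) = true) := by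
  decide +kernel

set_option maxRecDepth 10000000 in
theorem e6_data_step_17 : ∀ p ∈ e6Data17, p.1 = [] ∨ (p.2.2.2.1 < 1152 ∧
    (e6Data.getD p.2.2.2.1 e6Dflt).1 = p.1.tail ∧
    lenAddB chevE6 (e6Blk (p.1.headD 0)) (e6Wd p.1.tail) = true) := by
  decide +kernel

theorem e6_data_step : ∀ p ∈ e6Data, p.1 = [] ∨ (p.2.2.2.1 < 1152 ∧
    (e6Data.getD p.2.2.2.1 e6Dflt).1 = p.1.tail ∧
    lenAddB chevE6 (e6Blk (p.1.headD 0)) (e6Wd p.1.tail) = true) :=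
  e6_data_split
    e6_data_step_0
    e6_data_step_1
    e6_data_step_2
    e6_data_step_3
    e6_data_step_4
    e6_data_step_5
    e6_data_step_6
    e6_data_step_7
    e6_data_step_8
    e6_data_step_9
    e6_data_step_10
    e6_data_step_11
    e6_data_step_12
    e6_data_step_13
    e6_data_step_14
    e6_data_step_15
    e6_data_step_16
    e6_data_step_17


end Cfsg.Agent.Lib.Helper9
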