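import Cfsg.Agent.Lib.Helper9.TwE6Tbl

set_option autoImplicit false

namespace Cfsg.Agent.Lib.Helper9

open Cfsg.Lie
open Cfsg.Agent.Lib.Helper4
open Cfsg.Agent.Lib.Helper15.ChevGraphEx

/-! ### The table of the Weyl group of the twisted group of type `E₆`: closure -/

set_option maxRecDepth 10000000 in
theorem e6_data_close_0 : ∀ p ∈ e6Data0, ∀ k < 4, p.2.2.2.2.getD k 0 < 1152 ∧ ∀ r < 72,
    digitAt 256 (e6Data.getD (p.2.2.2.2.getD k 0) e6Dflt).2.1 r =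
      wActP (permOf chevE6) (e6Blk k) (digitAt 256 p.2.1 r) := by
  decide +kernel

set_option maxRecDepth 10000000 in
theorem e6_data_close_1 : ∀ p ∈ e6Data1, ∀ k < 4, p.2.2.2.2.getD k 0 < 1152 ∧ ∀ r < 72,
    digitAt 256 (e6Data.getD (p.2.2.2.2.getD k 0) e6Dflt).2.1 r =
      wActP (permOf chevE6) (e6Blk k) (digitAt 256 p.2.1 r) := by
  decide +kernel

set_option maxRecDepth 10000000 in
theorem e6_data_close_2 : ∀ p ∈ e6Data2, ∀ k < 4, p.2.2.2.2.getD k 0 < 1152 ∧ ∀ r < 72,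
    digitAt 256 (e6Data.getD (p.2.2.2.2.getD k 0) e6Dflt).2.1 r =
      wActP (permOf chevE6) (e6Blk k) (digitAt 256 p.2.1 r) := by
  decide +kernel

set_option maxRecDepth 10000000 in
theorem e6_data_close_3 : ∀ p ∈ e6Data3, ∀ k < 4, p.2.2.2.2.getD k 0 < 1152 ∧ ∀ r < 72,
    digitAt 256 (e6Data.getD (p.2.2.2.2.getD k 0) e6Dflt).2.1 r =
      wActP (permOf chevE6) (e6Blk k) (digitAt 256 p.2.1 r) := by
  decide +kernel

set_option maxRecDepth 10000000 in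
theorem e6_data_close_4 : ∀ p ∈ e6Data4, ∀ k < 4, p.2.2.2.2.getD k 0 < 1152 ∧ ∀ r < 72,
    digitAt 256 (e6Data.getD (p.2.2.2.2.getD k 0) e6Dflt).2.1 r =
      wActP (permOf chevE6) (e6Blk k) (digitAt 256 p.2.1 r) := by
  decide +kernel

set_option maxRecDepth 10000000 in
theorem e6_data_close_5 : ∀ p ∈ e6Data5, ∀ k < 4, p.2.2.2.2.getD k 0 < 1152 ∧ ∀ r < 72,
    digitAt 256 (e6Data.getD (p.2.2.2.2.getD k 0) e6Dflt).2.1 r =
      wActP (permOf chevE6) (e6Blk k) (digitAt 256 p.2.1 r) := by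
  decide +kernel

set_option maxRecDepth 10000000 in
theorem e6_data_close_6 : ∀ p ∈ e6Data6, ∀ k < 4, p.2.2.2.2.getD k 0 < 1152 ∧ ∀ r < 72,
    digitAt 256 (e6Data.getD (p.2.2.2.2.getD k 0) e6Dflt).2.1 r =
      wActP (permOf chevE6) (e6Blk k) (digitAt 256 p.2.1 r) := by
  decide +kernel

set_option maxRecDepth 10000000 in
theorem e6_data_close_7 : ∀ p ∈ e6Data7, ∀ k < 4, p.2.2.2.2.getD k 0 < 1152 ∧ ∀ r < 72,
    digitAt 256 (e6Data.getD (p.2.2.2.2.getD k 0) e6Dflt).2.1 r =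
      wActP (permOf chevE6) (e6Blk k) (digitAt 256 p.2.1 r) := by
  decide +kernel

set_option maxRecDepth 10000000 in
theorem e6_data_close_8 : ∀ p ∈ e6Data8, ∀ k < 4, p.2.2.2.2.getD k 0 < 1152 ∧ ∀ r < 72,
    digitAt 256 (e6Data.getD (p.2.2.2.2.getD k 0) e6Dflt).2.1 r =
      wActP (permOf chevE6) (e6Blk k) (digitAt 256 p.2.1 r) := by
  decide +kernel

set_option maxRecDepth 10000000 in
theorem e6_data_close_9 : ∀ p ∈ e6Data9, ∀ k < 4, p.2.2.2.2.getD k 0 < 1152 ∧ ∀ r < 72,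
    digitAt 256 (e6Data.getD (p.2.2.2.2.getD k 0) e6Dflt).2.1 r =
      wActP (permOf chevE6) (e6Blk k) (digitAt 256 p.2.1 r) := by
  decide +kernel

set_option maxRecDepth 10000000 in
theorem e6_data_close_10 : ∀ p ∈ e6Data10, ∀ k < 4, p.2.2.2.2.getD k 0 < 1152 ∧ ∀ r < 72,
    digitAt 256 (e6Data.getD (p.2.2.2.2.getD k 0) e6Dflt).2.1 r =
      wActP (permOf chevE6) (e6Blk k) (digitAt 256 p.2.1 r) := by
  decide +kernel

set_option maxRecDepth 10000000 in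
theorem e6_data_close_11 : ∀ p ∈ e6Data11, ∀ k < 4, p.2.2.2.2.getD k 0 < 1152 ∧ ∀ r < 72,
    digitAt 256 (e6Data.getD (p.2.2.2.2.getD k 0) e6Dflt).2.1 r =
      wActP (permOf chevE6) (e6Blk k) (digitAt 256 p.2.1 r) := by
  decide +kernel

set_option maxRecDepth 10000000 in
theorem e6_data_close_12 : ∀ p ∈ e6Data12, ∀ k < 4, p.2.2.2.2.getD k 0 < 1152 ∧ ∀ r < 72,
    digitAt 256 (e6Data.getD (p.2.2.2.2.getD k 0) e6Dflt).2.1 r =
      wActP (permOf chevE6) (e6Blk k) (digitAt 256 p.2.1 r) := by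
  decide +kernel

set_option maxRecDepth 10000000 in
theorem e6_data_close_13 : ∀ p ∈ e6Data13, ∀ k < 4, p.2.2.2.2.getD k 0 < 1152 ∧ ∀ r < 72,
    digitAt 256 (e6Data.getD (p.2.2.2.2.getD k 0) e6Dflt).2.1 r =
      wActP (permOf chevE6) (e6Blk k) (digitAt 256 p.2.1 r) := by
  decide +kernel

set_option maxRecDepth 10000000 in
theorem e6_data_close_14 : ∀ p ∈ e6Data14, ∀ k < 4, p.2.2.2.2.getD k 0 < 1152 ∧ ∀ r < 72,
    digitAt 256 (e6Data.getD (p.2.2.2.2.getD k 0) e6Dflt).2.1 r =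
      wActP (permOf chevE6) (e6Blk k) (digitAt 256 p.2.1 r) := by
  decide +kernel

set_option maxRecDepth 10000000 in
theorem e6_data_close_15 : ∀ p ∈ e6Data15, ∀ k < 4, p.2.2.2.2.getD k 0 < 1152 ∧ ∀ r < 72,
    digitAt 256 (e6Data.getD (p.2.2.2.2.getD k 0) e6Dflt).2.1 r =
      wActP (permOf chevE6) (e6Blk k) (digitAt 256 p.2.1 r) := by
  decide +kernel

set_option maxRecDepth 10000000 in
theorem e6_data_close_16 : ∀ p ∈ e6Data16, ∀ k < 4, p.2.2.2.2.getD k 0 < 1152 ∧ ∀ r < 72,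
    digitAt 256 (e6Data.getD (p.2.2.2.2.getD k 0) e6Dflt).2.1 r =
      wActP (permOf chevE6) (e6Blk k) (digitAt 256 p.2.1 r) := by
  decide +kernel

set_option maxRecDepth 10000000 in
theorem e6_data_close_17 : ∀ p ∈ e6Data17, ∀ k < 4, p.2.2.2.2.getD k 0 < 1152 ∧ ∀ r < 72,
    digitAt 256 (e6Data.getD (p.2.2.2.2.getD k 0) e6Dflt).2.1 r =
      wActP (permOf chevE6) (e6Blk k) (digitAt 256 p.2.1 r) := by
  decide +kernel

theorem e6_data_close : ∀ p ∈ e6Data, ∀ k < 4, p.2.2.2.2.getD k 0 < 1152 ∧ ∀ r < 72,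
    digitAt 256 (e6Data.getD (p.2.2.2.2.getD k 0) e6Dflt).2.1 r =
      wActP (permOf chevE6) (e6Blk k) (digitAt 256 p.2.1 r) :=
  e6_data_split
    e6_data_close_0
    e6_data_close_1
    e6_data_close_2
    e6_data_close_3
    e6_data_close_4
    e6_data_close_5
    e6_data_close_6
    e6_data_close_7
    e6_data_close_8
    e6_data_close_9
    e6_data_close_10
    e6_data_close_11
    e6_data_close_12
    e6_data_close_13
    e6_data_close_14
    e6_data_close_15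
    e6_data_close_16
    e6_data_close_17

set_option maxRecDepth 10000000 in
theorem e6_refl_facts : ∀ i < 6, ∀ r < 72, digitAt 256 (getN (permOf chevE6) i) r < 72 ∧
    digitAt 256 (getN (permOf chevE6) i) (digitAt 256 (getN (permOf chevE6) i) r) = r := by
  decide +kernel

set_option maxRecDepth 10000000 in
theorem e6_sign_facts : ∀ r < 72, (chevE6.IsNegRoot r ↔ r < 36) ∧ (chevE6.IsPosRoot r ↔ 36 ≤ r) := by
  decide +kernel

set_option maxRecDepth 10000000 in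
theorem e6_hist : histL (e6Tbl.map e6Exp) = [1, 2, 4, 6, 9, 13, 17, 22, 26, 32, 37, 43, 47, 51, 55, 58, 61, 61, 62, 61, 61, 58, 55, 51, 47, 43, 37, 32, 26, 22, 17, 13, 9, 6, 4, 2, 1] := by
  decide +kernel

end Cfsg.Agent.Lib.Helper9
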